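import Mathlib

set_option autoImplicit false
set_option linter.style.haveILetI false

namespace Cfsg.Agent.H08.Extra

open Subgroup

variable {G : Type*} [Group G]

/-- The sign of the commutator of two elements. -/
noncomputable def chi (a b : G) : ℤ := by
  classical exact if a * b = b * a then 1 else -1

theorem chi_eq_one_iff (a b : G) : chi a b = 1 ↔ a * b = b * a := by
  classical
  unfold chi
  split_ifs with h
  · simp [h]
  · simp [h]

theorem chi_cases (a b : G) : chi a b = 1 ∨ chi a b = -1 := by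
  classical
  unfold chi
  split_ifs <;> simp

theorem chi_symm (a b : G) : chi a b = chi b a := by
  classical
  unfold chi
  by_cases h : a * b = b * a
  · rw [if_pos h, if_pos h.symm]
  · rw [if_neg h, if_neg (fun h' => h h'.symm)]

theorem chi_conj (g a b : G) : chi (g * a * g⁻¹) (g * b * g⁻¹) = chi a b := by
  classical
  have : (g * a * g⁻¹) * (g * b * g⁻¹) = (g * b * g⁻¹) * (g * a * g⁻¹) ↔ a * b = b * a := by
    have e1 : (g * a * g⁻¹) * (g * b * g⁻¹) = g * (a * b) * g⁻¹ := by group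
    have e2 : (g * b * g⁻¹) * (g * a * g⁻¹) = g * (b * a) * g⁻¹ := by group
    rw [e1, e2]
    constructor
    · intro h
      exact mul_left_cancel (mul_right_cancel h)
    · intro h
      rw [h]
  unfold chi
  by_cases h : a * b = b * a
  · rw [if_pos h, if_pos (this.2 h)]
  · rw [if_neg h, if_neg (fun h' => h (this.1 h'))]

theorem chi_inv_left (a b : G) : chi a⁻¹ b = chi a b := by
  classical
  have : a⁻¹ * b = b * a⁻¹ ↔ a * b = b * a := by
    constructor
    · intro h
      have : a * (a⁻¹ * b) * a = a * (b * a⁻¹) * a := by rw [h]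
      have e1 : a * (a⁻¹ * b) * a = b * a := by group
      have e2 : a * (b * a⁻¹) * a = a * b := by group
      rw [e1, e2] at this
      exact this.symm
    · intro h
      have e1 : a⁻¹ * b = a⁻¹ * (b * a) * a⁻¹ := by group
      rw [e1, ← h]
      group
  unfold chi
  by_cases h : a * b = b * a
  · rw [if_pos h, if_pos (this.2 h)]
  · rw [if_neg h, if_neg (fun h' => h (this.1 h'))]

/-- The commutator form on `Q`. -/
structure Form (Q : Subgroup G) (z : G) : Prop where
  zne : z ≠ 1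
  zz : z * z = 1
  zQ : z ∈ Q
  zc : ∀ q ∈ Q, q * z = z * q
  comm : ∀ a ∈ Q, ∀ b ∈ Q, a * b = b * a ∨ a * b = z * (b * a)

theorem chi_of_z {z x y : G} (hz : z ≠ 1) (h : x * y = z * (y * x)) : chi x y = -1 := by
  rcases chi_cases x y with h1 | h1
  · rw [chi_eq_one_iff] at h1
    exfalso
    apply hz
    rw [h1] at h
    exact (mul_eq_right.1 h.symm)
  · exact h1

theorem chi_of_comm {x y : G} (h : x * y = y * x) : chi x y = 1 := (chi_eq_one_iff x y).2 h

theorem chi_mul_right {Q : Subgroup G} {z : G} (h : Form Q z) {a b c : G} (ha : a ∈ Q) (hb : b ∈ Q) (hc : c ∈ Q) :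
    chi a (b * c) = chi a b * chi a c := by
  have hzb := h.zc b hb
  rcases h.comm a ha b hb with h1 | h1 <;> rcases h.comm a ha c hc with h2 | h2
  · rw [chi_of_comm h1, chi_of_comm h2, chi_of_comm (y := b * c) (by
      rw [← mul_assoc, h1, mul_assoc, h2, mul_assoc])]
    norm_num
  · rw [chi_of_comm h1, chi_of_z h.zne h2, chi_of_z (y := b * c) h.zne (by
      rw [← mul_assoc, h1, mul_assoc, h2, ← mul_assoc b z, hzb]
      group)]
    norm_num
  · rw [chi_of_z h.zne h1, chi_of_comm h2, chi_of_z (y := b * c) h.zne (by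
      rw [← mul_assoc, h1, mul_assoc, mul_assoc, h2]
      group)]
    norm_num
  · rw [chi_of_z h.zne h1, chi_of_z h.zne h2, chi_of_comm (y := b * c) (by
      rw [← mul_assoc, h1, mul_assoc, mul_assoc, h2, ← mul_assoc b z, hzb]
      calc z * (z * b * (c * a)) = (z * z) * (b * (c * a)) := by group
        _ = b * c * a := by rw [h.zz]; group)]
    norm_num

theorem chi_mul_left {Q : Subgroup G} {z : G} (h : Form Q z) {a b c : G} (ha : a ∈ Q) (hb : b ∈ Q) (hc : c ∈ Q) :
    chi (a * b) c = chi a c * chi b c := by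
  rw [chi_symm, chi_mul_right h hc ha hb, chi_symm c a, chi_symm c b]

theorem sum_mult {Y : Type*} [Group Y] [Fintype Y] (f : Y → ℤ) (hm : ∀ x y, f (x * y) = f x * f y)
    (hpm : ∀ x, f x = 1 ∨ f x = -1) (hne : ∃ y, f y ≠ 1) : ∑ y, f y = 0 := by
  obtain ⟨y₀, hy₀⟩ := hne
  have hy : f y₀ = -1 := (hpm y₀).resolve_left hy₀
  have h1 : ∑ y, f y = ∑ y, f (y * y₀) := (Equiv.sum_comp (Equiv.mulRight y₀) f).symm
  simp_rw [hm, hy] at h1
  simp only [mul_neg, mul_one, Finset.sum_neg_distrib] at h1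
  omega

theorem sum_eq [Finite G] {Q : Subgroup G} {z : G} (h : Form Q z) (A B : Subgroup G) (hA : A ≤ Q) (hB : B ≤ Q)
    [Fintype A] [Fintype B] :
    ∑ a : A, ∑ b : B, chi (a : G) (b : G) = (Nat.card B : ℤ) * (Nat.card (A ⊓ centralizer (B : Set G) : Subgroup G) : ℤ) := by
  classical
  have hinner : ∀ a : A, ∑ b : B, chi (a : G) (b : G) =
      if (a : G) ∈ centralizer (B : Set G) then (Nat.card B : ℤ) else 0 := by
    intro a
    split_ifs with hc
    · have : ∀ b : B, chi (a : G) (b : G) = 1 := fun b => by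
        rw [chi_eq_one_iff]
        exact (mem_centralizer_iff.1 hc b b.2).symm
      simp only [this, Finset.sum_const, Finset.card_univ, smul_eq_mul, mul_one, Nat.card_eq_fintype_card]
      simp
    · apply sum_mult (fun b : B => chi (a : G) (b : G))
      · intro x y
        exact chi_mul_right h (hA a.2) (hB x.2) (hB y.2)
      · intro x
        exact chi_cases _ _
      · by_contra hcon
        push Not at hcon
        apply hc
        rw [mem_centralizer_iff]
        intro b hb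
        exact ((chi_eq_one_iff _ _).1 (hcon ⟨b, hb⟩)).symm
  simp_rw [hinner]
  rw [Finset.sum_ite, Finset.sum_const_zero, add_zero, Finset.sum_const, nsmul_eq_mul, mul_comm]
  congr 1
  have hcard : Nat.card (A ⊓ centralizer (B : Set G) : Subgroup G) =
      (Finset.univ.filter fun a : A => (a : G) ∈ centralizer (B : Set G)).card := by
    rw [← Fintype.card_subtype, ← Nat.card_eq_fintype_card]
    apply Nat.card_congr
    exact
      { toFun := fun x => ⟨⟨x, x.2.1⟩, x.2.2⟩
        invFun := fun x => ⟨x.1, x.1.2, x.2⟩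
        left_inv := fun x => rfl
        right_inv := fun x => rfl }
  rw [hcard]

theorem double_count [Finite G] {Q : Subgroup G} {z : G} (h : Form Q z) (A B : Subgroup G) (hA : A ≤ Q) (hB : B ≤ Q) :
    Nat.card A * Nat.card (B ⊓ centralizer (A : Set G) : Subgroup G) =
      Nat.card B * Nat.card (A ⊓ centralizer (B : Set G) : Subgroup G) := by
  classical
  letI := Fintype.ofFinite A
  letI := Fintype.ofFinite B
  have h1 := sum_eq h A B hA hB
  have h2 := sum_eq h B A hB hA
  have h3 : ∑ a : A, ∑ b : B, chi (a : G) (b : G) = ∑ b : B, ∑ a : A, chi (b : G) (a : G) := by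
    rw [Finset.sum_comm]
    apply Finset.sum_congr rfl
    intro b _
    apply Finset.sum_congr rfl
    intro a _
    exact chi_symm _ _
  rw [h1, h2] at h3
  exact_mod_cast h3.symm

/-- The main abstract theorem about an involution acting on an extraspecial group. -/
theorem extra_main [Finite G] {Q : Subgroup G} {z α : G} (h : Form Q z)
    (hZ : ∀ q ∈ Q, (∀ s ∈ Q, q * s = s * q) → q = 1 ∨ q = z)
    (hsq : ∀ a ∈ Q, a * a = 1 ∨ a * a = z)
    (hαz : α * z = z * α) (hα2 : α * α = 1) (hαQ : ∀ q ∈ Q, α * q * α⁻¹ ∈ Q)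
    (hnt : ∃ q ∈ Q, α * q ≠ q * α) (Q₀ : Subgroup G)
    (hQ₀ : ∀ q : G, q ∈ Q₀ ↔ (q ∈ Q ∧ α * q * α⁻¹ * q⁻¹ ∈ zpowers z)) :
    closure ((fun q : G => α * q * α⁻¹ * q⁻¹) '' (Q : Set G)) = (center Q₀).map Q₀.subtype := by
  classical
  have hαi : α⁻¹ = α := inv_eq_of_mul_eq_one_left hα2
  have hzi : z⁻¹ = z := inv_eq_of_mul_eq_one_left h.zz
  have hzp : ∀ x, x ∈ zpowers z ↔ x = 1 ∨ x = z := by
    intro x
    constructor
    · intro hx
      obtain ⟨i, rfl⟩ := mem_zpowers_iff.1 hx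
      have hz2 : z ^ (2 : ℤ) = 1 := by
        rw [zpow_two]; exact h.zz
      rcases Int.even_or_odd i with ⟨j, rfl⟩ | ⟨j, rfl⟩
      · left
        rw [← two_mul, zpow_mul, hz2, one_zpow]
      · right
        rw [zpow_add, zpow_mul, hz2, one_zpow, one_mul, zpow_one]
    · rintro (rfl | rfl)
      · exact one_mem _
      · exact mem_zpowers _
  have hcardz : Nat.card (zpowers z) = 2 := by
    rw [Nat.card_zpowers]
    exact orderOf_eq_prime (by rw [sq]; exact h.zz) h.zne
  -- commutators in terms of `chi`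
  have hQ₀' : ∀ q ∈ Q₀, α * q * α⁻¹ = q ∨ α * q * α⁻¹ = z * q := by
    intro q hq
    obtain ⟨hq1, hq2⟩ := (hQ₀ q).1 hq
    rcases (hzp _).1 hq2 with h3 | h3
    · left
      exact mul_inv_eq_one.1 h3
    · right
      exact mul_inv_eq_iff_eq_mul.1 h3
  have hQ₀Q : Q₀ ≤ Q := fun q hq => ((hQ₀ q).1 hq).1
  have hzQ₀ : z ∈ Q₀ := by
    rw [hQ₀]
    refine ⟨h.zQ, ?_⟩
    have : α * z * α⁻¹ * z⁻¹ = 1 := by
      rw [hαz]; group
    rw [this]
    exact one_mem _
  -- `chi` with a central factor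
  have hchiz : ∀ x ∈ Q, chi x z = 1 := fun x hx => chi_of_comm (h.zc x hx)
  -- the `chi`-invariance of `α`
  have hchiα : ∀ a b : G, chi (α * a * α⁻¹) b = chi a (α * b * α⁻¹) := by
    intro a b
    have := chi_conj α a (α * b * α⁻¹)
    rw [← this]
    congr 1
    rw [hαi]
    calc b = (α * α) * b * (α * α) := by rw [hα2]; group
      _ = α * (α * b * α) * α := by group
  set R := closure ((fun q : G => α * q * α⁻¹ * q⁻¹) '' (Q : Set G)) with hR
  have hgen : ∀ q ∈ Q, α * q * α⁻¹ * q⁻¹ ∈ R := fun q hq => subset_closure ⟨q, hq, rfl⟩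
  -- the generators
  have hgenQ : ∀ q ∈ Q, α * q * α⁻¹ * q⁻¹ ∈ Q := fun q hq => mul_mem (hαQ q hq) (inv_mem hq)
  have hgenQ₀ : ∀ q ∈ Q, α * q * α⁻¹ * q⁻¹ ∈ Q₀ := by
    intro q hq
    rw [hQ₀]
    refine ⟨hgenQ q hq, ?_⟩
    set q' := α * q * α⁻¹ with hq'
    have hq'Q : q' ∈ Q := hαQ q hq
    have e1 : α * q' * α⁻¹ = q := by
      rw [hq', hαi]
      calc α * (α * q * α) * α = (α * α) * q * (α * α) := by group
        _ = q := by rw [hα2]; group
    have e2 : α * (q' * q⁻¹) * α⁻¹ = q * q'⁻¹ := by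
      have : α * (q' * q⁻¹) * α⁻¹ = (α * q' * α⁻¹) * (α * q * α⁻¹)⁻¹ := by group
      rw [this, e1]
    have e3 : α * (q' * q⁻¹) * α⁻¹ * (q' * q⁻¹)⁻¹ = (q * q'⁻¹) * (q * q'⁻¹) := by
      rw [e2]; group
    rw [e3, hzp]
    exact hsq _ (mul_mem hq (inv_mem hq'Q))
  have hgencomm : ∀ q ∈ Q, ∀ q₀ ∈ Q₀, chi (α * q * α⁻¹ * q⁻¹) q₀ = 1 := by
    intro q hq q₀ hq₀
    rw [chi_mul_left h (hαQ q hq) (inv_mem hq) (hQ₀Q hq₀), chi_inv_left, hchiα]
    have h1 : chi q (α * q₀ * α⁻¹) = chi q q₀ := by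
      rcases hQ₀' q₀ hq₀ with e | e
      · rw [e]
      · rw [e, chi_mul_right h hq h.zQ (hQ₀Q hq₀), hchiz q hq, one_mul]
    rw [h1]
    rcases chi_cases q q₀ with e | e <;> rw [e] <;> norm_num
  have hRQ₀ : R ≤ Q₀ := by
    rw [hR, closure_le]
    rintro _ ⟨q, hq, rfl⟩
    exact hgenQ₀ q hq
  have hRC : R ≤ centralizer (Q₀ : Set G) := by
    rw [hR, closure_le]
    rintro _ ⟨q, hq, rfl⟩
    show _ ∈ centralizer (Q₀ : Set G)
    rw [mem_centralizer_iff]
    intro q₀ hq₀
    exact ((chi_eq_one_iff _ _).1 (hgencomm q hq q₀ hq₀)).symm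
  have hRQ : R ≤ Q := hRQ₀.trans hQ₀Q
  -- `z ∈ R`
  have hzR : z ∈ R := by
    obtain ⟨q, hq, hne⟩ := hnt
    have hr := hgen q hq
    set r := α * q * α⁻¹ * q⁻¹ with hrdef
    have hr1 : r ≠ 1 := by
      intro h1
      apply hne
      have := mul_inv_eq_one.1 h1
      exact mul_inv_eq_iff_eq_mul.1 this
    by_cases hrz : r = z
    · rwa [← hrz]
    · have hnc : ¬ ∀ s ∈ Q, r * s = s * r := fun hall =>
        (hZ r (hRQ hr) hall).elim hr1 hrz
      push Not at hnc
      obtain ⟨s, hs, hsne⟩ := hnc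
      -- `s r s⁻¹` is in `R`
      have hconj : s * r * s⁻¹ ∈ R := by
        have e : s * r * s⁻¹ = (α * s * α⁻¹ * s⁻¹)⁻¹ * (α * (s * q) * α⁻¹ * (s * q)⁻¹) := by
          rw [hrdef]; group
        rw [e]
        exact mul_mem (inv_mem (hgen s hs)) (hgen _ (mul_mem hs hq))
      rcases h.comm s hs r (hRQ hr) with e | e
      · exact absurd e.symm hsne
      · have e2 : z = s * r * s⁻¹ * r⁻¹ := by
          rw [e]; group
        rw [e2]
        exact mul_mem hconj (inv_mem hr)
  -- `Q₀ = Q ∩ C(R)`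
  have hQ₀C : (Q ⊓ centralizer (R : Set G) : Subgroup G) = Q₀ := by
    apply le_antisymm
    · rintro q ⟨hq, hqc⟩
      rw [hQ₀]
      refine ⟨hq, ?_⟩
      rw [hzp]
      apply hZ _ (hgenQ q hq)
      intro s hs
      apply (chi_eq_one_iff _ _).1
      rw [chi_mul_left h (hαQ q hq) (inv_mem hq) hs, chi_inv_left, hchiα]
      have hqR : chi q (α * s * α⁻¹ * s⁻¹) = 1 := by
        apply chi_of_comm
        exact (mem_centralizer_iff.1 hqc _ (hgen s hs)).symm
      rw [chi_mul_right h hq (hαQ s hs) (inv_mem hs), chi_symm q s⁻¹, chi_inv_left, chi_symm s q] at hqR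
      exact hqR
    · intro q₀ hq₀
      refine ⟨hQ₀Q hq₀, ?_⟩
      show q₀ ∈ centralizer (R : Set G)
      rw [mem_centralizer_iff]
      intro r hr
      exact (mem_centralizer_iff.1 (hRC hr) q₀ hq₀).symm
  -- intersection with the center of `Q`
  have hcenter : ∀ A : Subgroup G, z ∈ A → A ≤ Q →
      (A ⊓ centralizer (Q : Set G) : Subgroup G) = zpowers z := by
    intro A hzA hAQ
    apply le_antisymm
    · rintro x ⟨hxA, hxc⟩
      rw [hzp]
      apply hZ x (hAQ hxA)
      intro s hs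
      exact (mem_centralizer_iff.1 hxc s hs).symm
    · rw [zpowers_le]
      refine ⟨hzA, ?_⟩
      show z ∈ centralizer (Q : Set G)
      rw [mem_centralizer_iff]
      exact fun q hq => h.zc q hq
  have hc1 := double_count h R Q hRQ le_rfl
  have hc2 := double_count h Q₀ Q hQ₀Q le_rfl
  rw [hQ₀C, hcenter R hzR hRQ, hcardz] at hc1
  rw [hcenter Q₀ hzQ₀ hQ₀Q, hcardz] at hc2
  have hcard : Nat.card R = Nat.card (Q ⊓ centralizer (Q₀ : Set G) : Subgroup G) := by
    have hpos : 0 < Nat.card Q₀ := Nat.card_pos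
    have h3 : Nat.card Q₀ * Nat.card R = Nat.card Q₀ * Nat.card (Q ⊓ centralizer (Q₀ : Set G) : Subgroup G) := by
      rw [mul_comm, hc1, hc2]
    exact Nat.eq_of_mul_eq_mul_left hpos h3
  have hReq : R = Q ⊓ centralizer (Q₀ : Set G) :=
    Subgroup.eq_of_le_of_card_ge (le_inf hRQ hRC) (by rw [hcard])
  apply le_antisymm
  · intro r hr
    refine ⟨⟨r, hRQ₀ hr⟩, ?_, rfl⟩
    show (⟨r, hRQ₀ hr⟩ : Q₀) ∈ center Q₀
    rw [mem_center_iff]
    intro q
    apply Subtype.ext
    exact mem_centralizer_iff.1 (hRC hr) q q.2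
  · rintro _ ⟨x, hx, rfl⟩
    rw [hReq]
    refine ⟨hQ₀Q x.2, ?_⟩
    show (x : G) ∈ centralizer (Q₀ : Set G)
    rw [mem_centralizer_iff]
    intro q hq
    have := (mem_center_iff.1 hx) ⟨q, hq⟩
    exact congrArg Subtype.val this

end Cfsg.Agent.H08.Extra
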