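import Mathlib
import Cfsg.Agent.Lib.H08.PCoreL
import Cfsg.Agent.Lib.H01.Fitting
import Cfsg.Prelude.Def_Local

set_option autoImplicit false
set_option linter.style.haveILetI false

namespace Cfsg.Agent.H08

open Cfsg Subgroup

variable {S : Type*} [Group S]

/-- **Hall–Higman Lemma 1.2.3**: in a `p`-solvable group with `O_{p'} = 1`, `C(O_p) ≤ O_p`. -/
theorem hall_higman [Finite S] {p : ℕ} [hp : Fact p.Prime] (hS : IsPSolvable p S) (hred : pPrimeCore p S = ⊥) :
    centralizer (pCore p S : Set S) ≤ pCore p S := by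
  classical
  by_contra hcon
  haveI hPn : (pCore p S).Normal := Agent.H01.pCore_normal p
  have hPp : IsPGroup p (pCore p S) := Agent.H01.pCore_isPGroup p
  set P := pCore p S with hP
  set C := centralizer (P : Set S) with hC
  haveI hCn : C.Normal := inferInstance
  set Z := P ⊓ C with hZ
  haveI hZn : Z.Normal := inferInstance
  have hZp : IsPGroup p Z := hPp.to_le inf_le_left
  obtain ⟨n, H, hH0, hHn, hmono, hnorm, hfac⟩ := hS
  -- locate the critical step
  obtain ⟨i, hi1, hi2⟩ : ∃ i : Fin n, H i.castSucc ⊓ C ≤ Z ∧ ¬ H i.succ ⊓ C ≤ Z := by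
    by_contra hno
    push Not at hno
    have hall : ∀ i : Fin (n + 1), H i ⊓ C ≤ Z := by
      intro i
      induction i using Fin.induction with
      | zero => rw [hH0]; simp
      | succ i ih => exact hno i ih
    have h1 := hall (Fin.last n)
    rw [hHn, top_inf_eq] at h1
    exact hcon (h1.trans inf_le_left)
  set A := H i.castSucc with hA
  set B := H i.succ with hB
  haveI hAn : A.Normal := hnorm _
  haveI hBn : B.Normal := hnorm _
  have hAB : A ≤ B := hmono (Fin.castSucc_lt_succ).le
  set L := (B ⊓ C) ⊔ Z with hL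
  haveI hLn : L.Normal := inferInstance
  have hLC : L ≤ C := sup_le inf_le_right inf_le_right
  have hZL : Z ≤ L := le_sup_right
  have hLZ : ¬ L ≤ Z := fun h => hi2 (le_sup_left.trans h)
  -- the index divides the index of the step
  have hdvd : Z.relIndex L ∣ A.relIndex B := by
    have h1 : Z.relIndex L = Z.relIndex (B ⊓ C) := Subgroup.relIndex_sup_right _ _
    have h2 : Z.relIndex (B ⊓ C) ∣ (A ⊓ C).relIndex (B ⊓ C) :=
      Subgroup.relIndex_dvd_of_le_left _ hi1
    have h3 : (A ⊓ C).relIndex (B ⊓ C) = A.relIndex (B ⊓ C) := by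
      have e : A ⊓ C = A ⊓ (B ⊓ C) := by
        rw [← inf_assoc, inf_eq_left.2 hAB]
      rw [e, Subgroup.inf_relIndex_right]
    have h4 : A.relIndex (B ⊓ C) ∣ A.relIndex B := by
      have e1 : A.relIndex (B ⊓ C) = (A.subgroupOf B).relIndex ((B ⊓ C).subgroupOf B) :=
        (Subgroup.relIndex_subgroupOf inf_le_left).symm
      rw [e1, Subgroup.relIndex]
      haveI : (A.subgroupOf B).Normal := inferInstance
      exact Subgroup.relIndex_dvd_index_of_normal _ _
    rw [h1]
    exact h2.trans (h3 ▸ h4)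
  rcases hfac i with ⟨m, hm⟩ | hm
  · -- `L` is a `p`-group
    apply hLZ
    rw [hm] at hdvd
    obtain ⟨j, -, hj⟩ := (Nat.dvd_prime_pow hp.out).1 hdvd
    have hLp : IsPGroup p L := by
      obtain ⟨k, hk⟩ := IsPGroup.iff_card.1 hZp
      rw [IsPGroup.iff_card]
      refine ⟨j + k, ?_⟩
      have h1 : Z.relIndex L * Nat.card Z = Nat.card L := by
        rw [Subgroup.relIndex, ← Nat.card_congr (Subgroup.subgroupOfEquivOfLe hZL).toEquiv]
        exact Subgroup.index_mul_card _
      rw [← h1, hj, hk, pow_add]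
    have h2 : L ≤ P := Agent.H01.le_pCore hLn hLp
    exact le_inf h2 hLC
  · -- `L/Z` is a `p'`-group
    have hcop : (Z.relIndex L).Coprime p := Nat.Coprime.coprime_dvd_left hdvd hm
    have := eq_of_central_sylow hred L Z hLn hZL hZp (fun z hz c hc =>
      (mem_centralizer_iff.1 (hLC hc) z hz.1)) hcop
    exact hLZ this.le

end Cfsg.Agent.H08
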